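import Cfsg.Agent.Lib.Gamma2Core53.Interface
import Cfsg.Agent.Lib.Coprime.Generation
import Cfsg.Agent.Lib.PGroups.ElemAb
import Cfsg.Agent.Lib.Involutions.Basic

/-!
# Elementary consequences of `Setting`

Four-groups determine their coset (`mem_of_conj`, `mem_of_four`), fusion of involutions happens in
`M` (`conj_eq`), odd subgroups normalised by an elementary subgroup of order 8 lie in `M` (`odd_le`),
and if every involution of `M` is good, `M` is strongly embedded.
-/

set_option autoImplicit false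
set_option linter.style.haveILetI false
set_option linter.unusedSimpArgs false

universe u

namespace Cfsg.Agent.Lib.Gamma2Core53

open Subgroup
open scoped Pointwise
open Cfsg.Agent.Lib
open Cfsg.Agent.Lib.Involutions.Basic

variable {G : Type u} [Group G]

theorem mem_centralizer_one {f x : G} :
    x ∈ centralizer ({f} : Set G) ↔ x * f = f * x := mem_centralizer_singleton_iff

/-- Two commuting involutions lie in a four-group contained in any subgroup containing both. -/
theorem exists_four_pair {x y : G} (hx : orderOf x = 2) (hy : orderOf y = 2) (hxy : x * y = y * x)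
    (hne : x ≠ y) :
    ∃ U : Subgroup G, Four U ∧ x ∈ U ∧ y ∈ U ∧ ∀ K : Subgroup G, x ∈ K → y ∈ K → U ≤ K := by
  have hxx := invol_mul_self hx
  have hyy := invol_mul_self hy
  have h4 : x * (x * y) = y := by rw [← mul_assoc, hxx, one_mul]
  have h5 : (x * y) * x = y := by rw [hxy, mul_assoc, hxx, mul_one]
  have h6 : y * (x * y) = x := by rw [← mul_assoc, ← hxy, mul_assoc, hyy, mul_one]
  have h7 : (x * y) * y = x := by rw [mul_assoc, hyy, mul_one]
  have h8 : (x * y) * (x * y) = 1 := by rw [mul_assoc, h6, hxx]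
  let U : Subgroup G :=
    { carrier := {1, x, y, x * y}
      one_mem' := by simp
      mul_mem' := by
        intro a b ha hb
        simp only [Set.mem_insert_iff, Set.mem_singleton_iff] at ha hb ⊢
        rcases ha with rfl | rfl | rfl | rfl <;> rcases hb with rfl | rfl | rfl | rfl <;>
          simp [hxx, hyy, h4, h5, h6, h7, h8, ← hxy]
      inv_mem' := by
        intro a ha
        simp only [Set.mem_insert_iff, Set.mem_singleton_iff] at ha ⊢
        rcases ha with rfl | rfl | rfl | rfl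
        · simp
        · simp [inv_eq_of_mul_eq_one_right hxx]
        · simp [inv_eq_of_mul_eq_one_right hyy]
        · exact Or.inr (Or.inr (Or.inr (inv_eq_of_mul_eq_one_right h8))) }
  have hmem : ∀ a : G, a ∈ U ↔ a = 1 ∨ a = x ∨ a = y ∨ a = x * y := fun a => by
    change a ∈ ({1, x, y, x * y} : Set G) ↔ _
    simp only [Set.mem_insert_iff, Set.mem_singleton_iff]
  refine ⟨U, ⟨⟨⟨⟨fun a b => ?_⟩⟩, fun a ha => ?_⟩, ?_⟩, (hmem x).2 (by simp), (hmem y).2 (by simp),
    fun K hxK hyK a ha => ?_⟩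
  · apply Subtype.ext
    change (a : G) * b = b * a
    rcases (hmem a).1 a.2 with h | h | h | h <;> rcases (hmem b).1 b.2 with h' | h' | h' | h' <;>
      rw [h, h'] <;> simp [hxx, hyy, h4, h5, h6, h7, ← hxy]
  · rw [sq]
    rcases (hmem a).1 ha with h | h | h | h <;> rw [h] <;> simp [hxx, hyy, h8]
  · have hx1 := invol_ne_one hx
    have hy1 := invol_ne_one hy
    have hxy1 : x * y ≠ 1 := fun e =>
      hne (by rw [← inv_eq_of_mul_eq_one_right hxx]; exact inv_eq_of_mul_eq_one_right e)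
    have hU : (U : Set G) = {1, x, y, x * y} := rfl
    rw [← SetLike.coe_sort_coe, Nat.card_coe_set_eq, hU, Set.ncard_insert_of_notMem,
      Set.ncard_insert_of_notMem, Set.ncard_pair]
    · intro e
      exact hx1 (by
        have := congrArg (· * y) e
        change y * y = x * y * y at this
        rw [hyy, h7] at this
        exact this.symm)
    · simp [hne, hy1]
    · simp [hx1.symm, hy1.symm, hxy1.symm]
  · rcases (hmem a).1 ha with rfl | rfl | rfl | rfl
    exacts [K.one_mem, hxK, hyK, K.mul_mem hxK hyK]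

theorem Four.map {U : Subgroup G} (h : Four U) (g : G) :
    Four (U.map (MulAut.conj g).toMonoidHom) :=
  ⟨PGroups.elemAb_conj g h.1,
    (Subgroup.card_map_of_injective (MulAut.conj g).injective).trans h.2⟩

theorem mem_map_conj {T : Subgroup G} {g x : G} (hx : x ∈ T) :
    g * x * g⁻¹ ∈ T.map (MulAut.conj g).toMonoidHom :=
  ⟨x, hx, by simp⟩

/-- A 2-subgroup of `K` is conjugate in `K` into a maximal one. -/
theorem exists_conj_le [Finite G] {K P T : Subgroup G} (hP : IsPGroup 2 ↥P) (hPK : P ≤ K)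
    (hT : IsPGroup 2 ↥T) (hTK : T ≤ K)
    (hmax : ∀ T' : Subgroup G, IsPGroup 2 ↥T' → T ≤ T' → T' ≤ K → T' = T) :
    ∃ c ∈ K, ∀ x ∈ P, c * x * c⁻¹ ∈ T := by
  haveI : Fact (Nat.Prime 2) := ⟨Nat.prime_two⟩
  obtain ⟨Q, hQ⟩ := (hT.comap_of_injective K.subtype K.subtype_injective).exists_le_sylow
  have hQT : (Q : Subgroup ↥K).map K.subtype = T := by
    refine hmax _ (Q.isPGroup'.map _) ?_ (map_subtype_le _)
    intro x hx
    exact ⟨⟨x, hTK hx⟩, hQ (show ((⟨x, hTK hx⟩ : ↥K) : G) ∈ T from hx), rfl⟩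
  obtain ⟨R, hR⟩ := (hP.comap_of_injective K.subtype K.subtype_injective).exists_le_sylow
  obtain ⟨c, hc⟩ := MulAction.exists_smul_eq ↥K R Q
  refine ⟨c, c.2, fun x hx => ?_⟩
  rw [← hQT]
  have h1 : (⟨x, hPK hx⟩ : ↥K) ∈ (R : Subgroup ↥K) := hR (show ((⟨x, hPK hx⟩ : ↥K) : G) ∈ P from hx)
  refine ⟨c * ⟨x, hPK hx⟩ * c⁻¹, ?_, by simp⟩
  rw [← hc, Sylow.coe_subgroup_smul]
  exact Subgroup.smul_mem_pointwise_smul _ (MulAut.conj c) _ h1

theorem exists_normalizing {T P : Subgroup G} [Finite G] (hP : IsPGroup 2 ↥P) (hTP : T < P) :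
    ∃ s ∈ P, s ∉ T ∧ s ∈ normalizer (T : Set G) := by
  haveI : Fact (Nat.Prime 2) := ⟨Nat.prime_two⟩
  haveI := hP.isNilpotent
  have hlt : T.subgroupOf P < ⊤ := by
    rw [lt_top_iff_ne_top, Ne, Subgroup.subgroupOf_eq_top]
    exact not_le_of_gt hTP
  obtain ⟨⟨s, hsP⟩, hs1, hs2⟩ :=
    SetLike.exists_of_lt (Group.normalizerCondition_of_isNilpotent _ hlt)
  refine ⟨s, hsP, hs2, Subgroup.mem_normalizer_iff.2 fun x => ?_⟩
  have h0 := Subgroup.mem_normalizer_iff.1 hs1
  constructor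
  · intro hx
    exact (h0 ⟨x, hTP.le hx⟩).1 hx
  · intro hx
    have hxP : x ∈ P := by
      have := P.mul_mem (P.mul_mem (P.inv_mem hsP) (hTP.le hx)) hsP
      simpa [mul_assoc] using this
    exact (h0 ⟨x, hxP⟩).2 hx

variable [Finite G] {M : Subgroup G}

theorem Setting.exists_maximal (_h : Setting M) {K T : Subgroup G} (hT : IsPGroup 2 ↥T)
    (hTK : T ≤ K) :
    ∃ T' : Subgroup G, T ≤ T' ∧ IsPGroup 2 ↥T' ∧ T' ≤ K ∧
      ∀ T'' : Subgroup G, IsPGroup 2 ↥T'' → T' ≤ T'' → T'' ≤ K → T'' = T' := by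
  obtain ⟨T', hTT', hmax⟩ := (Set.toFinite {X : Subgroup G | IsPGroup 2 ↥X ∧ X ≤ K}).exists_le_maximal
    (show T ∈ {X : Subgroup G | IsPGroup 2 ↥X ∧ X ≤ K} from ⟨hT, hTK⟩)
  exact ⟨T', hTT', hmax.1.1, hmax.1.2, fun T'' h1 h2 h3 =>
    le_antisymm (hmax.2 ⟨h1, h3⟩ h2) h2⟩

/-- A 2-subgroup of `M` maximal there is a Sylow subgroup of `G`. -/
theorem Setting.card_maximal (h : Setting M) {P : Subgroup G} (hP : IsPGroup 2 ↥P) (hPM : P ≤ M)
    (hmax : ∀ T' : Subgroup G, IsPGroup 2 ↥T' → P ≤ T' → T' ≤ M → T' = P) :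
    ∃ S : Sylow 2 G, (S : Subgroup G) = P := by
  obtain ⟨S, hSM, -⟩ := h.rank
  obtain ⟨c, -, hc⟩ := exists_conj_le S.isPGroup' hSM hP hPM hmax
  refine ⟨MulAut.conj c • S, ?_⟩
  have hle : MulAut.conj c • (S : Subgroup G) ≤ P := by
    intro y hy
    rw [Subgroup.mem_smul_pointwise_iff_exists] at hy
    obtain ⟨x, hx, rfl⟩ := hy
    exact hc x hx
  exact ((MulAut.conj c • S).is_maximal' hP hle).symm

/-- Conjugation of a 2-subgroup with a four-group into `M` happens in `M`. -/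
theorem Setting.mem_of_conj (h : Setting M) : ∀ T : Subgroup G, IsPGroup 2 ↥T → T ≤ M →
    (∃ U : Subgroup G, U ≤ T ∧ Four U) → ∀ g : G, (∀ x ∈ T, g * x * g⁻¹ ∈ M) → g ∈ M := by
  haveI : Fact (Nat.Prime 2) := ⟨Nat.prime_two⟩
  intro T
  induction hn : Nat.card G - Nat.card ↥T using Nat.strong_induction_on generalizing T with
  | _ n ih =>
  intro hT hTM hU g hg
  obtain ⟨P, hTP, hP, hPM, hPmax⟩ := h.exists_maximal hT hTM
  have hT'M : T.map (MulAut.conj g).toMonoidHom ≤ M := by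
    rintro _ ⟨x, hx, rfl⟩
    simpa using hg x hx
  have hT'p : IsPGroup 2 ↥(T.map (MulAut.conj g).toMonoidHom) := hT.map _
  rcases eq_or_lt_of_le hTP with heq | hlt
  · obtain ⟨S, hS⟩ := h.card_maximal hP hPM hPmax
    obtain ⟨c, hcM, hc⟩ := exists_conj_le hT'p hT'M hT hTM (fun T' h1 h2 h3 => by
      subst heq; exact hPmax T' h1 h2 h3)
    suffices c * g ∈ M by
      have := M.mul_mem (M.inv_mem hcM) this
      rwa [inv_mul_cancel_left] at this
    refine h.normal T hT hTM hU (Subgroup.mem_normalizer_iff.2 fun x => ⟨fun hx => ?_, fun hx => ?_⟩)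
    · rw [show c * g * x * (c * g)⁻¹ = c * (g * x * g⁻¹) * c⁻¹ by group]
      exact hc _ (mem_map_conj hx)
    · have hmap : T.map (MulAut.conj (c * g)).toMonoidHom = T := by
        refine Subgroup.eq_of_le_of_card_ge ?_
          (Subgroup.card_map_of_injective (MulAut.conj (c * g)).injective).ge
        rintro _ ⟨y, hy, rfl⟩
        simp only [MulEquiv.coe_toMonoidHom, MulAut.conj_apply]
        rw [show c * g * y * (c * g)⁻¹ = c * (g * y * g⁻¹) * c⁻¹ by group]
        exact hc _ (mem_map_conj hy)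
      rw [← hmap] at hx
      obtain ⟨y, hy, hyx⟩ := hx
      simp only [MulEquiv.coe_toMonoidHom, MulAut.conj_apply] at hyx
      have : y = x := mul_left_cancel (mul_right_cancel hyx)
      exact this ▸ hy
  · obtain ⟨s, hsP, hsT, hsN⟩ := exists_normalizing hP hlt
    set T₁ : Subgroup G := T ⊔ zpowers s with hT₁
    have hT₁P : T₁ ≤ P := sup_le hTP (by rwa [zpowers_le])
    have hlt1 : T < T₁ := lt_of_le_of_ne le_sup_left fun e => hsT (e ▸
      (le_sup_right (a := T) (mem_zpowers s) : s ∈ T₁))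
    have hcard : Nat.card ↥T < Nat.card ↥T₁ := lt_of_le_of_ne
      (Subgroup.card_le_of_le hlt1.le) fun e => hlt1.ne (Subgroup.eq_of_le_of_card_ge hlt1.le e.ge)
    have hle : Nat.card ↥T₁ ≤ Nat.card G := Subgroup.card_le_card_group T₁
    have hsg : g * s * g⁻¹ ∈ M := by
      obtain ⟨U, hUT, hU4⟩ := hU
      refine h.normal _ hT'p hT'M ⟨_, Subgroup.map_mono hUT, hU4.map g⟩ ?_
      refine Subgroup.mem_normalizer_iff.2 fun y => ?_
      have key : ∀ w : G, w ∈ T.map (MulAut.conj g).toMonoidHom ↔ g⁻¹ * w * g ∈ T := fun w => by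
        constructor
        · rintro ⟨x, hx, rfl⟩; simpa [mul_assoc] using hx
        · intro hw; exact ⟨_, hw, by simp [mul_assoc]⟩
      rw [key, key, Subgroup.mem_normalizer_iff.1 hsN (g⁻¹ * y * g)]
      constructor <;> intro hh <;> convert hh using 1 <;> group
    refine ih _ (by omega) T₁ rfl (hP.to_le hT₁P) (hT₁P.trans hPM)
      (hU.imp fun U hU' => ⟨hU'.1.trans hlt1.le, hU'.2⟩) g ?_
    have hsub : T₁ ≤ M.comap (MulAut.conj g).toMonoidHom :=
      sup_le (fun x hx => by simpa using hg x hx) (by rw [zpowers_le]; simpa using hsg)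
    intro x hx
    simpa using hsub hx

/-- A four-group of `M` conjugated into `M` comes with its conjugating element. -/
theorem Setting.mem_of_four (h : Setting M) {U : Subgroup G} (hU : Four U) (hUM : U ≤ M) {g : G}
    (hg : ∀ x ∈ U, g * x * g⁻¹ ∈ M) : g ∈ M :=
  h.mem_of_conj U (PGroups.elemAb_isPGroup hU.1) hUM ⟨U, le_rfl, hU⟩ g hg

theorem Setting.centralizer_four_le (h : Setting M) {U : Subgroup G} (hU : Four U) (hUM : U ≤ M) :
    centralizer (U : Set G) ≤ M := fun g hg =>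
  h.mem_of_four hU hUM fun x hx => by
    rw [(Subgroup.mem_centralizer_iff.1 hg x hx).symm, mul_inv_cancel_right]
    exact hUM hx

/-- Two commuting involutions of `M` are centralised only inside `M`. -/
theorem Setting.centralizer_pair_le (h : Setting M) {x y g : G} (hx : orderOf x = 2)
    (hy : orderOf y = 2) (hxy : x * y = y * x) (hne : x ≠ y) (hxM : x ∈ M) (hyM : y ∈ M)
    (hgx : g * x = x * g) (hgy : g * y = y * g) : g ∈ M := by
  obtain ⟨U, hU, -, -, hmin⟩ := exists_four_pair hx hy hxy hne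
  refine h.centralizer_four_le hU (hmin M hxM hyM) ?_
  refine Subgroup.mem_centralizer_iff.2 fun w hw => ?_
  exact (mem_centralizer_one.1 (hmin (centralizer ({g} : Set G)) (mem_centralizer_one.2 hgx.symm)
    (mem_centralizer_one.2 hgy.symm) hw))

/-- Every involution of a Sylow subgroup lies with another commuting one. -/
theorem Setting.exists_partner (h : Setting M) {P : Subgroup G} (hP : IsPGroup 2 ↥P) (hPM : P ≤ M)
    (hmax : ∀ T' : Subgroup G, IsPGroup 2 ↥T' → P ≤ T' → T' ≤ M → T' = P)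
    {f : G} (hfP : f ∈ P) :
    ∃ y ∈ P, orderOf y = 2 ∧ y ≠ f ∧ f * y = y * f := by
  haveI : Fact (Nat.Prime 2) := ⟨Nat.prime_two⟩
  by_cases hcen : ∀ y ∈ P, f * y = y * f
  · obtain ⟨S, hSM, E, hES, hE, hE8⟩ := h.rank
    obtain ⟨c, -, hc⟩ := exists_conj_le S.isPGroup' hSM hP hPM hmax
    have hE' : (E : Set G).ncard ≥ 8 := by
      rwa [← Nat.card_coe_set_eq, SetLike.coe_sort_coe]
    obtain ⟨e, he, hene⟩ : ∃ e ∈ (E : Set G), e ∉ ({1, c⁻¹ * f * c} : Set G) := by
      refine Set.exists_mem_notMem_of_ncard_lt_ncard ?_ (hs := Set.toFinite _)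
      calc ({1, c⁻¹ * f * c} : Set G).ncard ≤ ({c⁻¹ * f * c} : Set G).ncard + 1 :=
            Set.ncard_insert_le _ _
        _ < _ := by rw [Set.ncard_singleton]; omega
    simp only [Set.mem_insert_iff, Set.mem_singleton_iff, not_or] at hene
    refine ⟨c * e * c⁻¹, hc e (hES he), (orderOf_conj_eq c e).trans
      (orderOf_eq_prime (PGroups.elemAb_pow hE he) hene.1), fun he' => hene.2 ?_, hcen _ (hc e (hES he))⟩
    rw [← he']; group
  · push Not at hcen
    obtain ⟨y, hyP, hy⟩ := hcen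
    haveI : Nontrivial ↥P := ⟨⟨⟨y, hyP⟩, 1, fun e => hy (by
      rw [show y = 1 from congrArg Subtype.val e]; simp)⟩⟩
    haveI := hP.center_nontrivial
    obtain ⟨k, hk⟩ := IsPGroup.iff_card.1 (hP.to_subgroup (Subgroup.center ↥P))
    have hk0 : k ≠ 0 := fun e => by
      have := Finite.one_lt_card (α := ↥(Subgroup.center ↥P))
      rw [hk, e] at this; simp at this
    obtain ⟨z, hz⟩ := exists_prime_orderOf_dvd_card' (G := ↥(Subgroup.center ↥P)) 2
      (hk ▸ dvd_pow_self 2 hk0)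
    refine ⟨((z : ↥P) : G), (z : ↥P).2, by rw [Subgroup.orderOf_coe, Subgroup.orderOf_coe, hz],
      fun e => hy ?_, ?_⟩
    · have h1 := congrArg Subtype.val (Subgroup.mem_center_iff.1 z.2 ⟨y, hyP⟩)
      simp only [Subgroup.coe_mul, e] at h1
      exact h1.symm
    · exact congrArg Subtype.val (Subgroup.mem_center_iff.1 z.2 ⟨f, hfP⟩)

omit [Finite G] in
theorem zpowers_isPGroup {f : G} (hf : orderOf f = 2) : IsPGroup 2 ↥(zpowers f) :=
  IsPGroup.of_card (n := 1) (by rw [Nat.card_zpowers, hf]; rfl)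

/-- Every involution of `M` lies in a four-group of `M`. -/
theorem Setting.exists_four (h : Setting M) {f : G} (hf : f ∈ M) (hf2 : orderOf f = 2) :
    ∃ U : Subgroup G, Four U ∧ f ∈ U ∧ U ≤ M := by
  obtain ⟨P, hfP, hP, hPM, hPmax⟩ :=
    h.exists_maximal (zpowers_isPGroup hf2) (by rwa [zpowers_le])
  obtain ⟨y, hyP, hy, hne, hc⟩ := h.exists_partner hP hPM hPmax (hfP (mem_zpowers f))
  obtain ⟨U, hU, hfU, -, hmin⟩ := exists_four_pair hf2 hy hc hne.symm
  exact ⟨U, hU, hfU, hmin M hf (hPM hyP)⟩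

theorem Setting.exists_sylowAt (h : Setting M) (f : G) {T₀ : Subgroup G} (h0 : IsPGroup 2 ↥T₀)
    (h0le : T₀ ≤ M ⊓ centralizer ({f} : Set G)) : ∃ T, T₀ ≤ T ∧ SylowAt M f T := by
  obtain ⟨T, h1, h2, h3, h4⟩ := h.exists_maximal h0 h0le
  exact ⟨T, h1, ⟨h2, h3, h4⟩⟩

theorem Setting.exists_sylowAt' (h : Setting M) (f : G) : ∃ T, SylowAt M f T := by
  obtain ⟨T, -, hT⟩ := h.exists_sylowAt f (T₀ := ⊥) IsPGroup.of_bot bot_le
  exact ⟨T, hT⟩

omit [Finite G] in
theorem SylowAt.mem {f : G} {T : Subgroup G} (hT : SylowAt M f T) (hf : f ∈ M)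
    (hf2 : orderOf f = 2) : f ∈ T := by
  have hle : T ⊔ zpowers f ≤ M ⊓ centralizer ({f} : Set G) :=
    sup_le hT.le (by rw [zpowers_le]; exact ⟨hf, mem_centralizer_one.2 rfl⟩)
  have hn : zpowers f ≤ normalizer (T : Set G) := by
    rw [zpowers_le]
    refine Subgroup.mem_normalizer_iff.2 fun x => ⟨fun hx => ?_, fun hx => ?_⟩
    · rwa [← mem_centralizer_one.1 (hT.le hx).2, mul_inv_cancel_right]
    · have h1 := mem_centralizer_one.1 (hT.le hx).2
      have : f * x * f⁻¹ = x := by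
        have h2 : f * (f * x * f⁻¹) = (f * x * f⁻¹) * f := h1.symm
        rw [inv_mul_cancel_right] at h2
        exact mul_left_cancel h2
      rwa [this] at hx
  have hp : IsPGroup 2 ↥(T ⊔ zpowers f) :=
    hT.isPGroup.to_sup_of_normal_left' (zpowers_isPGroup hf2) hn
  rw [← hT.maximal _ hp le_sup_left hle]
  exact le_sup_right (a := T) (mem_zpowers f)

theorem SylowAt.exists_four (h : Setting M) {f : G} {T : Subgroup G} (hT : SylowAt M f T)
    (hf : f ∈ M) (hf2 : orderOf f = 2) : ∃ U : Subgroup G, U ≤ T ∧ Four U := by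
  obtain ⟨U, hU, hfU, hUM⟩ := h.exists_four hf hf2
  have hUC : U ≤ centralizer ({f} : Set G) := fun x hx => mem_centralizer_one.2
    (congrArg Subtype.val (hU.1.1.is_comm.comm (⟨x, hx⟩ : ↥U) ⟨f, hfU⟩))
  obtain ⟨c, -, hc⟩ := exists_conj_le (PGroups.elemAb_isPGroup hU.1) (le_inf hUM hUC) hT.isPGroup
    hT.le hT.maximal
  refine ⟨U.map (MulAut.conj c).toMonoidHom, ?_, hU.map c⟩
  rintro _ ⟨x, hx, rfl⟩
  simpa using hc x hx

/-- A Sylow subgroup of `C_M(f)` is one of `C(f)`. -/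
theorem SylowAt.maximal_centralizer (h : Setting M) {f : G} {T : Subgroup G} (hT : SylowAt M f T)
    (hf : f ∈ M) (hf2 : orderOf f = 2) {T' : Subgroup G} (hp : IsPGroup 2 ↥T') (hle : T ≤ T')
    (hC : T' ≤ centralizer ({f} : Set G)) : T' = T := by
  by_contra hne
  obtain ⟨s, hsT', hsT, hsN⟩ := exists_normalizing hp (lt_of_le_of_ne hle (Ne.symm hne))
  have hsM : s ∈ M :=
    h.normal T hT.isPGroup (hT.le.trans inf_le_left) (hT.exists_four h hf hf2) hsN
  have hsub : T ⊔ zpowers s ≤ T' := sup_le hle (by rwa [zpowers_le])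
  have := hT.maximal (T ⊔ zpowers s) (hp.to_le hsub) le_sup_left
    (sup_le hT.le (by rw [zpowers_le]; exact ⟨hsM, hC hsT'⟩))
  exact hsT (this ▸ (le_sup_right (a := T) (mem_zpowers s) : s ∈ T ⊔ zpowers s))

/-- Involutions of `M` conjugate in `G` are conjugate in `M`; the conjugating elements differ by
elements of the centraliser. -/
theorem Setting.conj_eq (h : Setting M) {f g : G} (hf : f ∈ M) (hf2 : orderOf f = 2)
    (hg : g * f * g⁻¹ ∈ M) :
    ∃ c : G, c * (g * f * g⁻¹) = (g * f * g⁻¹) * c ∧ c * g ∈ M := by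
  set f' := g * f * g⁻¹ with hf'
  have hf'2 : orderOf f' = 2 := (orderOf_conj_eq g f).trans hf2
  obtain ⟨T, hT⟩ := h.exists_sylowAt' f
  obtain ⟨T', hT'⟩ := h.exists_sylowAt' f'
  have hTC : T.map (MulAut.conj g).toMonoidHom ≤ centralizer ({f'} : Set G) := by
    rintro _ ⟨x, hx, rfl⟩
    refine mem_centralizer_one.2 ?_
    simp only [MulEquiv.coe_toMonoidHom, MulAut.conj_apply, hf']
    have := mem_centralizer_one.1 (hT.le hx).2
    calc g * x * g⁻¹ * (g * f * g⁻¹) = g * (x * f) * g⁻¹ := by group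
      _ = _ := by rw [this]; group
  obtain ⟨c, hcC, hc⟩ := exists_conj_le (hT.isPGroup.map _) hTC hT'.isPGroup
    (hT'.le.trans inf_le_right) fun T'' h1 h2 h3 => hT'.maximal_centralizer h hg hf'2 h1 h2 h3
  refine ⟨c, mem_centralizer_one.1 hcC, h.mem_of_conj T hT.isPGroup (hT.le.trans inf_le_left)
    (hT.exists_four h hf hf2) (c * g) fun x hx => ?_⟩
  rw [show c * g * x * (c * g)⁻¹ = c * (g * x * g⁻¹) * c⁻¹ by group]
  exact (hT'.le (hc _ (mem_map_conj hx))).1

theorem Setting.conj_eq' (h : Setting M) {f g : G} (hf : f ∈ M) (hf2 : orderOf f = 2)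
    (hg : g * f * g⁻¹ ∈ M) : ∃ m ∈ M, m * f * m⁻¹ = g * f * g⁻¹ := by
  obtain ⟨c, hc, hcM⟩ := h.conj_eq hf hf2 hg
  refine ⟨c * g, hcM, ?_⟩
  rw [show c * g * f * (c * g)⁻¹ = c * (g * f * g⁻¹) * c⁻¹ by group, hc, mul_inv_cancel_right]

/-- A good involution of `M` pins its conjugating elements. -/
theorem Setting.good_mem (h : Setting M) {f g : G} (hf : f ∈ M) (hf2 : orderOf f = 2)
    (hgood : Good M f) (hg : g * f * g⁻¹ ∈ M) : g ∈ M := by
  obtain ⟨m, hm, he⟩ := h.conj_eq' hf hf2 hg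
  have : g⁻¹ * m ∈ M := hgood (mem_centralizer_one.2 (by
    calc g⁻¹ * m * f = g⁻¹ * (m * f * m⁻¹) * m := by group
      _ = f * (g⁻¹ * m) := by rw [he]; group))
  have h2 := M.mul_mem hm (M.inv_mem this)
  rwa [mul_inv_rev, inv_inv, mul_inv_cancel_left] at h2

/-- An odd subgroup normalised by an elementary subgroup of order at least 8 of `M` lies in `M`. -/
theorem Setting.odd_le (h : Setting M) {P E : Subgroup G} (hE : Cfsg.IsElementaryAbelian 2 E)
    (hE8 : 8 ≤ Nat.card ↥E) (hEM : E ≤ M) (hP : Odd (Nat.card ↥P))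
    (hn : E ≤ normalizer (P : Set G)) : P ≤ M := by
  haveI : Fact (Nat.Prime 2) := ⟨Nat.prime_two⟩
  have hcomm : ∀ a ∈ E, ∀ b ∈ E, a * b = b * a := fun a ha b hb =>
    congrArg Subtype.val (hE.1.is_comm.comm (⟨a, ha⟩ : ↥E) ⟨b, hb⟩)
  have hord : ∀ a ∈ E, a ≠ 1 → orderOf a = 2 := fun a ha ha1 =>
    orderOf_eq_prime (PGroups.elemAb_pow hE ha) ha1
  have hgen : ∀ (F K : Subgroup G), F ≤ E → 2 < Nat.card ↥F → F ≤ normalizer (K : Set G) →
      Odd (Nat.card ↥K) → (⨆ a ∈ {a : G | a ∈ F ∧ a ≠ 1}, K ⊓ centralizer {a}) = K := by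
    intro F K hFE hF2 hFK hK
    haveI : IsMulCommutative F :=
      ⟨⟨fun a b => Subtype.ext (hcomm a (hFE a.2) b (hFE b.2))⟩⟩
    refine Coprime.iSup_centralizer_eq ?_ hFK ?_
    · intro hcyc
      obtain ⟨x, hx⟩ := hcyc.exists_generator
      have h1 : Nat.card ↥F = orderOf x := (orderOf_eq_card_of_forall_mem_zpowers hx).symm
      have h2 : orderOf x ≤ 2 := orderOf_le_of_pow_eq_one two_pos
        (Subtype.ext (PGroups.elemAb_pow hE (hFE x.2)))
      omega
    · obtain ⟨k, hk⟩ := IsPGroup.iff_card.1 ((PGroups.elemAb_isPGroup hE).to_le hFE)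
      rw [hk]
      exact (Nat.coprime_two_left.2 hK).pow_left k
  rw [← hgen E P le_rfl (by omega) hn hP]
  refine iSup₂_le fun e he => ?_
  obtain ⟨heE, he1⟩ := he
  have hEe : ((E : Set G)).ncard ≥ 8 := by rwa [← Nat.card_coe_set_eq, SetLike.coe_sort_coe]
  obtain ⟨x, hxE, hx⟩ : ∃ x ∈ (E : Set G), x ∉ ({1, e} : Set G) := by
    refine Set.exists_mem_notMem_of_ncard_lt_ncard ?_ (hs := Set.toFinite _)
    rw [Set.ncard_pair (Ne.symm he1)]; omega
  simp only [Set.mem_insert_iff, Set.mem_singleton_iff, not_or] at hx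
  obtain ⟨y, hyE, hy⟩ : ∃ y ∈ (E : Set G), y ∉ ({1, e, x, x * e} : Set G) := by
    refine Set.exists_mem_notMem_of_ncard_lt_ncard ?_ (hs := Set.toFinite _)
    have h1 := Set.ncard_insert_le (1 : G) ({e, x, x * e} : Set G)
    have h2 := Set.ncard_insert_le e ({x, x * e} : Set G)
    have h3 := Set.ncard_insert_le x ({x * e} : Set G)
    rw [Set.ncard_singleton] at h3
    omega
  simp only [Set.mem_insert_iff, Set.mem_singleton_iff, not_or] at hy
  obtain ⟨U, hU, hxU, hyU, hmin⟩ := exists_four_pair (hord x hxE hx.1) (hord y hyE hy.1)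
    (hcomm x hxE y hyE) (Ne.symm hy.2.2.1)
  have hUE : U ≤ E := hmin E hxE hyE
  have heU : e ∉ U := by
    intro heU
    have hle : ({1, e, x, y} : Set G) ⊆ (U : Set G) := by
      rintro a (rfl | rfl | rfl | rfl)
      exacts [U.one_mem, heU, hxU, hyU]
    have hc4 : ({1, e, x, y} : Set G).ncard = 4 := by
      rw [Set.ncard_insert_of_notMem, Set.ncard_insert_of_notMem, Set.ncard_pair]
      · exact Ne.symm hy.2.2.1
      · simp [Ne.symm hx.2, Ne.symm hy.2.1]
      · simp [Ne.symm he1, Ne.symm hx.1, Ne.symm hy.1]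
    have heq : ({1, e, x, y} : Set G) = (U : Set G) := Set.eq_of_subset_of_ncard_le hle
      (by rw [hc4, ← Nat.card_coe_set_eq, SetLike.coe_sort_coe, hU.2])
    have hm : x * e ∈ ({1, e, x, y} : Set G) := heq ▸ U.mul_mem hxU heU
    rcases hm with h1 | h1 | h1 | h1
    · exact hx.2 ((mul_eq_one_iff_eq_inv.1 h1).trans (invol_inv (hord e heE he1)))
    · exact hx.1 (by simpa using h1)
    · exact he1 (by simpa using h1)
    · exact hy.2.2.2 h1.symm
  have hnorm : U ≤ normalizer ((P ⊓ centralizer {e} : Subgroup G) : Set G) := by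
    refine le_trans (le_inf (hUE.trans hn) ?_) (Subgroup.inf_normalizer_le_normalizer_inf (H := P) (K := centralizer {e}))
    intro a ha
    exact le_normalizer (mem_centralizer_one.2 (hcomm a (hUE ha) e heE))
  rw [← hgen U (P ⊓ centralizer {e}) hUE (by rw [hU.2]; omega) hnorm
    (Odd.of_dvd_nat hP (Subgroup.card_dvd_of_le inf_le_left))]
  refine iSup₂_le fun v hv g hg => ?_
  obtain ⟨hvU, hv1⟩ := hv
  exact h.centralizer_pair_le (hord e heE he1) (hord v (hUE hvU) hv1)
    (hcomm e heE v (hUE hvU)) (fun e' => heU (e' ▸ hvU)) (hEM heE) (hEM (hUE hvU))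
    (mem_centralizer_one.1 hg.1.2) (mem_centralizer_one.1 hg.2)

/-- A normal subgroup of odd order of `G` lies in `M`. -/
theorem Setting.normal_odd_le (h : Setting M) {N : Subgroup G} [N.Normal]
    (hN : Odd (Nat.card ↥N)) : N ≤ M := by
  obtain ⟨S, hSM, E, hES, hE, hE8⟩ := h.rank
  exact h.odd_le hE hE8 (hES.trans hSM) hN (by rw [Subgroup.normalizer_eq_top]; exact le_top)

/-- If all involutions of a proper `M` are good, it is strongly embedded. -/
theorem Setting.stronglyEmbedded (h : Setting M) (hM : M ≠ ⊤)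
    (hgood : ∀ f ∈ M, orderOf f = 2 → Good M f) : Cfsg.IsStronglyEmbedded M := by
  haveI : Fact (Nat.Prime 2) := ⟨Nat.prime_two⟩
  obtain ⟨S, hSM, E, hES, hE, hE8⟩ := h.rank
  refine ⟨hM, ?_, fun g hg => ?_⟩
  · obtain ⟨k, hk⟩ := IsPGroup.iff_card.1 (PGroups.elemAb_isPGroup hE)
    have h2 : 2 ∣ Nat.card ↥E := by
      rw [hk] at hE8 ⊢
      exact dvd_pow_self 2 (fun e => by rw [e] at hE8; simp at hE8)
    exact even_iff_two_dvd.2 (h2.trans (Subgroup.card_dvd_of_le (hES.trans hSM)))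
  · by_contra hodd
    rw [Nat.not_odd_iff_even, even_iff_two_dvd] at hodd
    obtain ⟨x, hx⟩ := exists_prime_orderOf_dvd_card'
      (G := ↥(M ⊓ M.map (MulAut.conj g).toMonoidHom)) 2 hodd
    have hx2 : orderOf (x : G) = 2 := by rw [Subgroup.orderOf_coe, hx]
    obtain ⟨y, hyM, hy⟩ := x.2.2
    simp only [MulEquiv.coe_toMonoidHom, MulAut.conj_apply] at hy
    have hy2 : orderOf y = 2 := by rw [← orderOf_conj_eq g y, hy, hx2]
    exact hg (h.good_mem hyM hy2 (hgood y hyM hy2) (hy ▸ x.2.1))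

end Cfsg.Agent.Lib.Gamma2Core53
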