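import Cfsg.Prelude.Def_Local
import Cfsg.Prelude.Def_Transfer
import Cfsg.Prelude.Def_Involutions

/-!
# A proper subgroup containing the normalisers of the 2-groups with a four-group

Interface of the theorem of `notes/s3111_closed_helper53.md`: if `M` contains the normaliser of each
of its 2-subgroups with a four-group, the 2-rank is at least 3 and `W` is an odd normal subgroup of
`M` with `W ∩ C(f) = O(C(f))` for the involutions `f` of `M`, then `W ≤ O(G)`.
-/

set_option autoImplicit false

universe u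

namespace Cfsg.Agent.Lib.Gamma2Core53

open scoped commutatorElement

variable {G : Type u} [Group G]

/-- A four-group. -/
def Four (U : Subgroup G) : Prop := Cfsg.IsElementaryAbelian 2 U ∧ Nat.card ↥U = 4

/-- `M` contains a Sylow 2-subgroup of 2-rank at least 3 and the normaliser of each of its
2-subgroups containing a four-group. -/
structure Setting (M : Subgroup G) : Prop where
  rank : ∃ S : Sylow 2 G, (S : Subgroup G) ≤ M ∧
    ∃ E : Subgroup G, E ≤ (S : Subgroup G) ∧ Cfsg.IsElementaryAbelian 2 E ∧ 8 ≤ Nat.card ↥E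
  normal : ∀ T : Subgroup G, IsPGroup 2 ↥T → T ≤ M → (∃ U : Subgroup G, U ≤ T ∧ Four U) →
    Subgroup.normalizer (T : Set G) ≤ M

/-- An involution all whose centralising elements lie in `M` (otherwise it is escaped). -/
def Good (M : Subgroup G) (f : G) : Prop := Subgroup.centralizer ({f} : Set G) ≤ M

/-- The odd core of a subgroup, inside `G`. -/
def coreM (M : Subgroup G) : Subgroup G := (Cfsg.oddCore ↥M).map M.subtype

/-- The odd core of a centraliser, inside `G`. -/
def coreC (f : G) : Subgroup G := Cfsg.centralizerPPrimeCore 2 f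

/-- An escaped involution `u` central in a Sylow subgroup of `M`. -/
structure Central (M : Subgroup G) (S : Sylow 2 G) (u : G) : Prop where
  le : (S : Subgroup G) ≤ M
  invol : orderOf u = 2
  mem : u ∈ (S : Subgroup G)
  central : (S : Subgroup G) ≤ Subgroup.centralizer ({u} : Set G)
  escaped : ¬ Good M u

/-- A Sylow 2-subgroup of `C_M(f)`. -/
structure SylowAt (M : Subgroup G) (f : G) (T : Subgroup G) : Prop where
  isPGroup : IsPGroup 2 ↥T
  le : T ≤ M ⊓ Subgroup.centralizer ({f} : Set G)
  maximal : ∀ T' : Subgroup G, IsPGroup 2 ↥T' → T ≤ T' →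
    T' ≤ M ⊓ Subgroup.centralizer ({f} : Set G) → T' = T

/-- Node D: if the centre of `S` has one involution, good involutions commute with `u` modulo
`O(M)`. -/
def PropGood.{w} : Prop :=
  ∀ (G : Type w) [Group G] [Finite G] (M : Subgroup G) (S : Sylow 2 G) (u g : G),
    Setting M → Central M S u →
    (∀ x ∈ (S : Subgroup G), (S : Subgroup G) ≤ Subgroup.centralizer ({x} : Set G) →
      x * x = 1 → x = 1 ∨ x = u) →
    g ∈ M → orderOf g = 2 → Good M g → ⁅g, u⁆ ∈ coreM M

/-- Node T (translation): if the centre of `S` has one involution, every involution of `C(u)` other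
than `u` is conjugate in `C(u)` to its product with `u`. -/
def PropTranslation.{w} : Prop :=
  ∀ (G : Type w) [Group G] [Finite G] (M : Subgroup G) (S : Sylow 2 G) (u : G),
    Setting M → Central M S u →
    (∀ x ∈ (S : Subgroup G), (S : Subgroup G) ≤ Subgroup.centralizer ({x} : Set G) →
      x * x = 1 → x = 1 ∨ x = u) →
    ∀ f : G, orderOf f = 2 → f * u = u * f → f ≠ u →
      ∃ x : G, x * u = u * x ∧ x * f * x⁻¹ = f * u

/-- Node E: an escaped involution `f` with a second involution `z` central in a Sylow subgroup `T` of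
`C_M(f)`: the involutions of `T` form `⟨f⟩ × V` with `N(T)` transitive on `V`, and commutators of
`z` with `T`-invariant odd subgroups of `C_M(f)` lie in `O(C(f))`. -/
def PropEPlus.{w} : Prop :=
  ∀ (G : Type w) [Group G] [Finite G] (M T : Subgroup G) (f z : G),
    Setting M → f ∈ M → orderOf f = 2 → ¬ Good M f → SylowAt M f T →
    z ∈ T → orderOf z = 2 → z ≠ f → T ≤ Subgroup.centralizer ({z} : Set G) →
    (∀ x ∈ T, x * x = 1 → ∀ y ∈ T, y * y = 1 → x * y = y * x) ∧
    (∃ V : Subgroup G, V ≤ T ∧ Cfsg.IsElementaryAbelian 2 V ∧ f ∉ V ∧ 4 ≤ Nat.card ↥V ∧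
      (∀ x ∈ T, x * x = 1 → x ∈ V ∨ f * x ∈ V) ∧
      (∀ n ∈ M ⊓ Subgroup.centralizer ({f} : Set G), n ∈ Subgroup.normalizer (T : Set G) →
        n ∈ Subgroup.normalizer (V : Set G)) ∧
      (∀ x ∈ V, x ≠ 1 → ∀ y ∈ V, y ≠ 1 → ∃ n ∈ M ⊓ Subgroup.centralizer ({f} : Set G),
        n ∈ Subgroup.normalizer (T : Set G) ∧ n * x * n⁻¹ = y)) ∧
    (∀ P : Subgroup G, P ≤ M ⊓ Subgroup.centralizer ({f} : Set G) → Odd (Nat.card ↥P) →
      T ≤ Subgroup.normalizer (P : Set G) → ∀ p ∈ P, ⁅p, z⁆ ∈ coreC f)

/-- The theorem. -/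
def PropMain.{w} : Prop :=
  ∀ (G : Type w) [Group G] [Finite G] (M W : Subgroup G),
    Setting M → W ≤ M → Odd (Nat.card ↥W) → M ≤ Subgroup.normalizer (W : Set G) →
    (∀ f ∈ M, orderOf f = 2 → coreC f = W ⊓ Subgroup.centralizer ({f} : Set G)) →
    W ≤ Cfsg.oddCore G

end Cfsg.Agent.Lib.Gamma2Core53
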